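import Mathlib

set_option linter.unusedSectionVars false
set_option linter.unusedVariables false
set_option autoImplicit false
set_option maxHeartbeats 400000

noncomputable section

namespace Groth.Agent.Lib.Helper6.ThetaRep

open scoped commutatorElement

universe u

variable {k : Type u} [Field k] {Γ : Type u} [Group Γ]

/-- the hypotheses on a (non-degenerate) theta group -/
structure Theta (ι : kˣ →* Γ) : Prop where
  inj : Function.Injective ι
  cent : ι.range = Subgroup.center Γ
  comm : commutator Γ ≤ ι.range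

namespace Theta

variable {ι : kˣ →* Γ} (T : Theta ι)

include T in
theorem central (z : kˣ) (g : Γ) : ι z * g = g * ι z := by
  have h : ι z ∈ Subgroup.center Γ := by rw [← T.cent]; exact ⟨z, rfl⟩
  exact (Subgroup.mem_center_iff.mp h g).symm

include T in
theorem central' {c : Γ} (hc : c ∈ ι.range) (g : Γ) : c * g = g * c := by
  obtain ⟨z, rfl⟩ := hc
  exact T.central z g

include T in
theorem comm_mem (g h : Γ) : g * h * g⁻¹ * h⁻¹ ∈ ι.range :=
  T.comm (Subgroup.commutator_mem_commutator (Subgroup.mem_top g) (Subgroup.mem_top h))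

/-- the commutator pairing -/
def e (g h : Γ) : kˣ := Classical.choose (T.comm_mem g h)

theorem e_spec (g h : Γ) : ι (T.e g h) = g * h * g⁻¹ * h⁻¹ :=
  Classical.choose_spec (T.comm_mem g h)

theorem mul_eq (g h : Γ) : g * h = ι (T.e g h) * (h * g) := by
  rw [e_spec]
  group

theorem e_unique (g h : Γ) (z : kˣ) (hz : g * h = ι z * (h * g)) : T.e g h = z := by
  apply T.inj
  have := T.mul_eq g h
  rw [hz] at this
  exact (mul_right_cancel this).symm

theorem e_mul_left (g g' h : Γ) : T.e (g * g') h = T.e g h * T.e g' h := by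
  apply T.e_unique
  calc g * g' * h = g * (g' * h) := by group
    _ = g * (ι (T.e g' h) * (h * g')) := by rw [← T.mul_eq]
    _ = ι (T.e g' h) * ((g * h) * g') := by
        rw [← mul_assoc g, ← T.central, mul_assoc, mul_assoc]
    _ = ι (T.e g' h) * (ι (T.e g h) * (h * g) * g') := by rw [← T.mul_eq]
    _ = ι (T.e g h * T.e g' h) * (h * (g * g')) := by
        rw [map_mul, T.central (T.e g h) (ι (T.e g' h))]
        group

theorem e_mul_right (g h h' : Γ) : T.e g (h * h') = T.e g h * T.e g h' := by
  apply T.e_unique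
  calc g * (h * h') = (g * h) * h' := by group
    _ = ι (T.e g h) * (h * g) * h' := by rw [← T.mul_eq]
    _ = ι (T.e g h) * (h * (g * h')) := by group
    _ = ι (T.e g h) * (h * (ι (T.e g h') * (h' * g))) := by rw [← T.mul_eq]
    _ = ι (T.e g h * T.e g h') * (h * h' * g) := by
        rw [map_mul, ← mul_assoc h, ← T.central (T.e g h') h]
        group

theorem e_range_left (z : kˣ) (h : Γ) : T.e (ι z) h = 1 := by
  apply T.e_unique
  rw [map_one, one_mul, T.central]

theorem e_range_right (g : Γ) (z : kˣ) : T.e g (ι z) = 1 := by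
  apply T.e_unique
  rw [map_one, one_mul, T.central]

theorem e_one_left (h : Γ) : T.e 1 h = 1 := by
  have := T.e_range_left 1 h
  rwa [map_one] at this

theorem e_one_right (g : Γ) : T.e g 1 = 1 := by
  have := T.e_range_right g 1
  rwa [map_one] at this

theorem e_inv_left (g h : Γ) : T.e g⁻¹ h = (T.e g h)⁻¹ := by
  have := T.e_mul_left g g⁻¹ h
  rw [mul_inv_cancel, e_one_left] at this
  exact eq_inv_of_mul_eq_one_right this.symm

theorem e_inv_right (g h : Γ) : T.e g h⁻¹ = (T.e g h)⁻¹ := by
  have := T.e_mul_right g h h⁻¹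
  rw [mul_inv_cancel, e_one_right] at this
  exact eq_inv_of_mul_eq_one_right this.symm

theorem e_swap (g h : Γ) : T.e h g = (T.e g h)⁻¹ := by
  apply T.e_unique
  have := T.mul_eq g h
  rw [this, ← mul_assoc, ← map_mul, inv_mul_cancel, map_one, one_mul]

theorem e_self (g : Γ) : T.e g g = 1 := by
  apply T.e_unique
  rw [map_one, one_mul]

/-- the left character attached to `g` -/
def eL (g : Γ) : Γ →* kˣ where
  toFun h := T.e g h
  map_one' := T.e_one_right g
  map_mul' h h' := T.e_mul_right g h h'

/-- the right character attached to `h` -/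
def eR (h : Γ) : Γ →* kˣ where
  toFun g := T.e g h
  map_one' := T.e_one_left h
  map_mul' g g' := T.e_mul_left g g' h

theorem eL_apply (g h : Γ) : T.eL g h = T.e g h := rfl
theorem eR_apply (g h : Γ) : T.eR h g = T.e g h := rfl

include T in
theorem mem_range_of_comm (g : Γ) (hg : ∀ h, g * h = h * g) : g ∈ ι.range := by
  rw [T.cent, Subgroup.mem_center_iff]
  intro h
  exact (hg h).symm

theorem nondeg_left (g : Γ) (hg : ∀ h, T.e g h = 1) : g ∈ ι.range := by
  apply T.mem_range_of_comm
  intro h
  rw [T.mul_eq g h, hg h, map_one, one_mul]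

theorem nondeg_right (h : Γ) (hh : ∀ g, T.e g h = 1) : h ∈ ι.range := by
  apply T.nondeg_left
  intro g
  rw [T.e_swap, hh g, inv_one]

theorem exists_e_ne_one_left {h : Γ} (hh : h ∉ ι.range) : ∃ g, T.e g h ≠ 1 := by
  by_contra hno
  push Not at hno
  exact hh (T.nondeg_right h hno)

theorem exists_e_ne_one_right {g : Γ} (hg : g ∉ ι.range) : ∃ h, T.e g h ≠ 1 := by
  by_contra hno
  push Not at hno
  exact hg (T.nondeg_left g hno)

end Theta

/-- weight one representations -/
def IsWeightOne {V : Type u} [AddCommGroup V] [Module k V] (ι : kˣ →* Γ)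
    (ρ : Representation k Γ V) : Prop :=
  ∀ (z : kˣ) (v : V), ρ (ι z) v = (z : k) • v

namespace Theta

variable {ι : kˣ →* Γ} (T : Theta ι) {V : Type u} [AddCommGroup V] [Module k V]
  {ρ : Representation k Γ V}

theorem rep_comm (hρ : IsWeightOne ι ρ) (g h : Γ) (v : V) :
    ρ g (ρ h v) = ((T.e g h : kˣ) : k) • ρ h (ρ g v) := by
  have h1 : ρ (g * h) v = ρ (ι (T.e g h) * (h * g)) v := by rw [← T.mul_eq]
  rw [map_mul, map_mul, map_mul] at h1
  simp only [Module.End.mul_apply] at h1
  rw [h1, hρ]

theorem rep_inv_apply (g : Γ) (v : V) : ρ g⁻¹ (ρ g v) = v := by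
  rw [← Module.End.mul_apply, ← map_mul, inv_mul_cancel, map_one, Module.End.one_apply]

theorem rep_apply_inv (g : Γ) (v : V) : ρ g (ρ g⁻¹ v) = v := by
  rw [← Module.End.mul_apply, ← map_mul, mul_inv_cancel, map_one, Module.End.one_apply]

end Theta

end Groth.Agent.Lib.Helper6.ThetaRep
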