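import Mathlib
import Groth.Agent.Lib.Helper6.ThetaRep.Pairing

set_option linter.unusedSectionVars false
set_option linter.unusedVariables false
set_option autoImplicit false
set_option maxHeartbeats 400000

noncomputable section

namespace Groth.Agent.Lib.Helper6.ThetaRep

universe u

section SumQ

variable {A : Type u} [Group A] (B : Subgroup A) [Fintype (A ⧸ B)] {E : Type u} [AddCommMonoid E]

/-- sum over the cosets of a right-invariant function -/
def sumQ (F : A → E) : E := ∑ x : A ⧸ B, F x.out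

theorem out_smul (a₀ : A) (x : A ⧸ B) : ∃ b ∈ B, (a₀ • x).out = a₀ * x.out * b := by
  have h1 : a₀ • x = QuotientGroup.mk (a₀ * x.out) := by
    conv_lhs => rw [← QuotientGroup.out_eq' x]
    rfl
  obtain ⟨b, hb⟩ := QuotientGroup.mk_out_eq_mul B (a₀ * x.out)
  exact ⟨b, b.2, by rw [h1, hb]⟩

theorem sumQ_mul_left (F : A → E) (hF : ∀ a b, b ∈ B → F (a * b) = F a) (a₀ : A) :
    sumQ B (fun a => F (a₀ * a)) = sumQ B F := by
  unfold sumQ
  have h1 : ∀ x : A ⧸ B, F (a₀ * x.out) = F ((a₀ • x).out) := by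
    intro x
    obtain ⟨b, hb, hx⟩ := out_smul B a₀ x
    rw [hx, hF _ _ hb]
  simp only [h1]
  exact Equiv.sum_comp (MulAction.toPerm a₀ : Equiv.Perm (A ⧸ B)) (fun y => F y.out)

theorem out_mem_iff (x : A ⧸ B) : x.out ∈ B ↔ x = QuotientGroup.mk 1 := by
  constructor
  · intro h
    rw [← QuotientGroup.out_eq' x, QuotientGroup.eq]
    simpa using B.inv_mem h
  · intro h
    have : (QuotientGroup.mk x.out : A ⧸ B) = QuotientGroup.mk 1 := by
      rw [QuotientGroup.out_eq' x, h]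
    rw [QuotientGroup.eq] at this
    simpa using B.inv_mem this

end SumQ

section CharSum

variable {k : Type u} [Field k] {Γ : Type u} [Group Γ] {ι : kˣ →* Γ} (T : Theta ι)
  [Fintype (Γ ⧸ ι.range)]

theorem sum_e_left {h : Γ} (hh : h ∉ ι.range) :
    ∑ x : Γ ⧸ ι.range, ((T.e x.out h : kˣ) : k) = 0 := by
  obtain ⟨g₀, hg₀⟩ := T.exists_e_ne_one_left hh
  have key := sumQ_mul_left ι.range (fun a => ((T.e a h : kˣ) : k)) (by
    intro a b hb
    obtain ⟨z, rfl⟩ := hb
    show ((T.e (a * ι z) h : kˣ) : k) = _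
    rw [T.e_mul_left, T.e_range_left, mul_one]) g₀
  unfold sumQ at key
  simp only [T.e_mul_left, Units.val_mul] at key
  rw [← Finset.mul_sum] at key
  have h2 : (((T.e g₀ h : kˣ) : k) - 1) * ∑ x : Γ ⧸ ι.range, ((T.e x.out h : kˣ) : k) = 0 := by
    rw [sub_mul, key, one_mul, sub_self]
  rcases mul_eq_zero.mp h2 with h3 | h3
  · exfalso
    apply hg₀
    apply Units.ext
    rw [Units.val_one]
    exact sub_eq_zero.mp h3
  · exact h3

theorem sum_e_right {g : Γ} (hg : g ∉ ι.range) :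
    ∑ x : Γ ⧸ ι.range, ((T.e g x.out : kˣ) : k) = 0 := by
  have hg' : g⁻¹ ∉ ι.range := fun h => hg (by simpa using ι.range.inv_mem h)
  have := sum_e_left T hg'
  convert this using 2 with x
  rw [T.e_swap, T.e_inv_right]

end CharSum

section Eigen

variable {k : Type u} [Field k]

/-- decomposition into eigenvectors for a family of characters with vanishing character sums -/
theorem eigen_decomp {A : Type u} [Group A] (B : Subgroup A) [Fintype (A ⧸ B)] {E : Type u}
    [AddCommGroup E] [Module k E] (τ : A →* Module.End k E) (hτ : ∀ b ∈ B, ∀ v, τ b v = v)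
    {J : Type u} [Fintype J] (ψ : J → A →* kˣ) (hψ : ∀ j, ∀ b ∈ B, ψ j b = 1)
    (hsum : ∀ a, a ∉ B → ∑ j, ((ψ j a : kˣ) : k) = 0) (hJ : (Fintype.card J : k) ≠ 0) (v : E) :
    ∃ w : J → E, v = ∑ j, w j ∧ ∀ j a, τ a (w j) = ((ψ j a : kˣ) : k) • w j := by
  classical
  let F : J → A → E := fun j a => ((ψ j a⁻¹ : kˣ) : k) • τ a v
  have hF : ∀ j a b, b ∈ B → F j (a * b) = F j a := by
    intro j a b hb
    show ((ψ j (a * b)⁻¹ : kˣ) : k) • τ (a * b) v = ((ψ j a⁻¹ : kˣ) : k) • τ a v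
    rw [mul_inv_rev, map_mul, hψ j _ (B.inv_mem hb), one_mul, map_mul, Module.End.mul_apply,
      hτ b hb]
  let P : J → E := fun j => sumQ B (F j)
  have hP : ∀ j a₀, τ a₀ (P j) = ((ψ j a₀ : kˣ) : k) • P j := by
    intro j a₀
    have h1 : P j = sumQ B (fun a => F j (a₀ * a)) := (sumQ_mul_left B (F j) (hF j) a₀).symm
    conv_rhs => rw [h1]
    show τ a₀ (∑ x : A ⧸ B, F j x.out) = ((ψ j a₀ : kˣ) : k) • ∑ x : A ⧸ B, F j (a₀ * x.out)
    rw [map_sum, Finset.smul_sum]
    apply Finset.sum_congr rfl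
    intro x _
    show τ a₀ (((ψ j (x.out)⁻¹ : kˣ) : k) • τ x.out v) =
      ((ψ j a₀ : kˣ) : k) • (((ψ j (a₀ * x.out)⁻¹ : kˣ) : k) • τ (a₀ * x.out) v)
    have h3 : ((ψ j (x.out)⁻¹ : kˣ) : k) =
        ((ψ j a₀ : kˣ) : k) * ((ψ j (a₀ * x.out)⁻¹ : kˣ) : k) := by
      rw [← Units.val_mul, mul_inv_rev, map_mul, map_inv (ψ j) a₀, mul_comm (ψ j (x.out)⁻¹),
        mul_inv_cancel_left]
    rw [map_smul, smul_smul, ← h3, map_mul τ, Module.End.mul_apply]
  refine ⟨fun j => (Fintype.card J : k)⁻¹ • P j, ?_, ?_⟩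
  · rw [← Finset.smul_sum]
    have h2 : ∑ j, P j = (Fintype.card J : k) • v := by
      show ∑ j, ∑ x : A ⧸ B, F j x.out = _
      rw [Finset.sum_comm]
      rw [Finset.sum_eq_single (QuotientGroup.mk 1 : A ⧸ B)]
      · have hmem : ((QuotientGroup.mk 1 : A ⧸ B)).out ∈ B := (out_mem_iff B _).mpr rfl
        have : ∀ j, F j ((QuotientGroup.mk 1 : A ⧸ B)).out = v := by
          intro j
          show ((ψ j _ : kˣ) : k) • τ _ v = v
          rw [hψ j _ (B.inv_mem hmem), hτ _ hmem, Units.val_one, one_smul]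
        simp only [this]
        rw [Finset.sum_const, Finset.card_univ, Nat.cast_smul_eq_nsmul]
      · intro x _ hx
        have hx' : x.out ∉ B := fun h => hx ((out_mem_iff B x).mp h)
        have hx'' : (x.out)⁻¹ ∉ B := fun h => hx' (by simpa using B.inv_mem h)
        show ∑ j, ((ψ j (x.out)⁻¹ : kˣ) : k) • τ x.out v = 0
        rw [← Finset.sum_smul, hsum _ hx'', zero_smul]
      · intro h
        exact absurd (Finset.mem_univ _) h
    rw [h2, smul_smul, inv_mul_cancel₀ hJ, one_smul]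
  · intro j a
    rw [map_smul, hP, smul_comm]

end Eigen

end Groth.Agent.Lib.Helper6.ThetaRep
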