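import Mathlib
import Groth.Agent.Lib.Helper6.ThetaRep.Sum

set_option linter.unusedSectionVars false
set_option linter.unusedVariables false
set_option autoImplicit false
set_option maxHeartbeats 400000

noncomputable section

namespace Groth.Agent.Lib.Helper6.ThetaRep

open Representation

universe u

variable {k : Type u} [Field k] {Γ : Type u} [Group Γ] {ι : kˣ →* Γ} (T : Theta ι)
  [Fintype (Γ ⧸ ι.range)]
variable {V W : Type u} [AddCommGroup V] [Module k V] [AddCommGroup W] [Module k W]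
  {ρ : Representation k Γ V} {σ : Representation k Γ W}

include T

theorem linHom_range (hρ : IsWeightOne ι ρ) (hσ : IsWeightOne ι σ) (b : Γ) (hb : b ∈ ι.range)
    (f : V →ₗ[k] W) : linHom ρ σ b f = f := by
  obtain ⟨z, rfl⟩ := hb
  ext v
  rw [linHom_apply, LinearMap.comp_apply, LinearMap.comp_apply, ← map_inv, hρ, hσ, map_smul,
    smul_smul, ← Units.val_mul, mul_inv_cancel, Units.val_one, one_smul]

/-- `Hom(V, W)` is spanned by eigenvectors for the characters `e(x, ·)` -/
theorem hom_decomp (hN : (Fintype.card (Γ ⧸ ι.range) : k) ≠ 0) (hρ : IsWeightOne ι ρ)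
    (hσ : IsWeightOne ι σ) (f : V →ₗ[k] W) :
    ∃ w : (Γ ⧸ ι.range) → (V →ₗ[k] W), f = ∑ x, w x ∧
      ∀ x g, linHom ρ σ g (w x) = ((T.e x.out g : kˣ) : k) • w x := by
  obtain ⟨w, hw1, hw2⟩ := eigen_decomp (k := k) ι.range (linHom ρ σ)
    (fun b hb v => linHom_range T hρ hσ b hb v) (J := Γ ⧸ ι.range) (fun x => T.eL x.out)
    (by
      intro x b hb
      obtain ⟨z, rfl⟩ := hb
      exact T.e_range_right _ z)
    (by
      intro a ha
      exact sum_e_left T ha) hN f
  exact ⟨w, hw1, fun x g => hw2 x g⟩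

/-- an eigenvector of the conjugation action is a translate of an intertwiner -/
theorem intertwine_of_eigen (hρ : IsWeightOne ι ρ) (hσ : IsWeightOne ι σ) (f : V →ₗ[k] W)
    (h : Γ) (hf : ∀ g, linHom ρ σ g f = ((T.e h g : kˣ) : k) • f) (g : Γ) :
    (f ∘ₗ ρ h) ∘ₗ ρ g = σ g ∘ₗ (f ∘ₗ ρ h) := by
  have h1 : ∀ v, σ g (f v) = ((T.e h g : kˣ) : k) • f (ρ g v) := by
    intro v
    have := congrArg (fun F : V →ₗ[k] W => F (ρ g v)) (hf g)
    simp only [linHom_apply, LinearMap.comp_apply, LinearMap.smul_apply] at this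
    rw [Theta.rep_inv_apply] at this
    exact this
  ext v
  simp only [LinearMap.comp_apply]
  rw [h1, T.rep_comm hρ g h, map_smul, smul_smul, ← Units.val_mul, T.e_swap g h, inv_mul_cancel,
    Units.val_one, one_smul]

theorem linHom_rep (hρ : IsWeightOne ι ρ) (g h : Γ) :
    linHom ρ ρ g (ρ h) = ((T.e g h : kˣ) : k) • ρ h := by
  ext v
  simp only [linHom_apply, LinearMap.comp_apply, LinearMap.smul_apply]
  rw [T.rep_comm hρ g h, Theta.rep_apply_inv]

/-- Schur's lemma in the form we use -/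
theorem schur [IsAlgClosed k] [FiniteDimensional k V] (hirr : IsIrreducible ρ) (F : V →ₗ[k] V)
    (hF : ∀ g, F ∘ₗ ρ g = ρ g ∘ₗ F) : ∃ c : k, ∀ v, F v = c • v := by
  haveI := hirr
  let Fi : IntertwiningMap ρ ρ := ⟨F, hF⟩
  obtain ⟨c, hc⟩ :=
    (IsIrreducible.algebraMap_intertwiningMap_bijective_of_isAlgClosed (ρ := ρ)).2 Fi
  refine ⟨c, fun v => ?_⟩
  have : Fi v = (algebraMap k (IntertwiningMap ρ ρ) c) v := by rw [hc]
  rw [IntertwiningMap.algebraMap_apply] at this
  exact this

theorem rep_injective (g : Γ) : Function.Injective (ρ g) := by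
  intro v w hvw
  have := congrArg (ρ g⁻¹) hvw
  rwa [Theta.rep_inv_apply, Theta.rep_inv_apply] at this

theorem out_mul_inv_mem_iff (x x₀ : Γ ⧸ ι.range) :
    x.out * (x₀.out)⁻¹ ∈ ι.range ↔ x = x₀ := by
  constructor
  · intro h
    rw [← QuotientGroup.out_eq' x, ← QuotientGroup.out_eq' x₀, eq_comm, QuotientGroup.eq]
    have h2 : (x₀.out)⁻¹ * x.out = x.out * (x₀.out)⁻¹ := by
      have := T.central' h (x₀.out)⁻¹
      rw [← mul_assoc] at this
      exact (mul_right_cancel this).symm
    rw [h2]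
    exact h
  · rintro rfl
    rw [mul_inv_cancel]
    exact ι.range.one_mem

/-- the operators `ρ(x)` for `x` in a set of representatives are linearly independent -/
theorem rep_linearIndependent [Nontrivial V] (hN : (Fintype.card (Γ ⧸ ι.range) : k) ≠ 0)
    (hρ : IsWeightOne ι ρ) :
    LinearIndependent k (fun x : Γ ⧸ ι.range => (ρ x.out : V →ₗ[k] V)) := by
  classical
  rw [Fintype.linearIndependent_iff]
  intro c hc x₀
  -- conjugate the relation
  have h1 : ∀ y : Γ ⧸ ι.range,
      ∑ x : Γ ⧸ ι.range, (c x * ((T.e y.out x.out : kˣ) : k)) • (ρ x.out : V →ₗ[k] V) = 0 := by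
    intro y
    have := congrArg (linHom ρ ρ y.out) hc
    rw [map_sum, map_zero] at this
    simp only [map_smul, linHom_rep T hρ, smul_smul] at this
    exact this
  have h2 : ∑ y : Γ ⧸ ι.range, (((T.e y.out x₀.out : kˣ)⁻¹ : kˣ) : k) •
      ∑ x : Γ ⧸ ι.range, (c x * ((T.e y.out x.out : kˣ) : k)) • (ρ x.out : V →ₗ[k] V) = 0 := by
    apply Finset.sum_eq_zero
    intro y _
    rw [h1 y, smul_zero]
  simp only [Finset.smul_sum, smul_smul] at h2
  rw [Finset.sum_comm] at h2
  have h3 : ∀ x : Γ ⧸ ι.range,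
      ∑ y : Γ ⧸ ι.range, ((((T.e y.out x₀.out : kˣ)⁻¹ : kˣ) : k) *
        (c x * ((T.e y.out x.out : kˣ) : k))) • (ρ x.out : V →ₗ[k] V) =
      (c x * ∑ y : Γ ⧸ ι.range, ((T.e y.out (x.out * (x₀.out)⁻¹) : kˣ) : k)) •
        (ρ x.out : V →ₗ[k] V) := by
    intro x
    rw [← Finset.sum_smul, Finset.mul_sum]
    congr 1
    apply Finset.sum_congr rfl
    intro y _
    rw [T.e_mul_right, T.e_inv_right, Units.val_mul]
    ring
  simp only [h3] at h2
  rw [Finset.sum_eq_single x₀] at h2
  · have h4 : ∑ y : Γ ⧸ ι.range, ((T.e y.out (x₀.out * (x₀.out)⁻¹) : kˣ) : k) =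
        (Fintype.card (Γ ⧸ ι.range) : k) := by
      simp only [mul_inv_cancel, T.e_one_right, Units.val_one]
      rw [Finset.sum_const, Finset.card_univ, nsmul_eq_mul, mul_one]
    rw [h4] at h2
    have h5 : (ρ x₀.out : V →ₗ[k] V) ≠ 0 := by
      intro h0
      obtain ⟨v, hv⟩ := exists_ne (0 : V)
      apply hv
      apply rep_injective T (ρ := ρ) x₀.out
      rw [h0, LinearMap.zero_apply, LinearMap.zero_apply]
    rcases smul_eq_zero.mp h2 with h6 | h6
    · exact (mul_eq_zero.mp h6).resolve_right hN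
    · exact absurd h6 h5
  · intro x _ hx
    have hx' : x.out * (x₀.out)⁻¹ ∉ ι.range := fun h => hx ((out_mul_inv_mem_iff T x x₀).mp h)
    rw [sum_e_left T hx', mul_zero, zero_smul]
  · intro h
    exact absurd (Finset.mem_univ _) h

/-- every endomorphism of an irreducible weight one representation is a combination of the
`ρ(x⁻¹)` -/
theorem end_le_span [IsAlgClosed k] [FiniteDimensional k V]
    (hN : (Fintype.card (Γ ⧸ ι.range) : k) ≠ 0) (hρ : IsWeightOne ι ρ) (hirr : IsIrreducible ρ) :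
    (⊤ : Submodule k (V →ₗ[k] V)) ≤
      Submodule.span k (Set.range (fun x : Γ ⧸ ι.range => (ρ (x.out)⁻¹ : V →ₗ[k] V))) := by
  intro f _
  obtain ⟨w, hw1, hw2⟩ := hom_decomp T hN hρ hρ f
  rw [hw1]
  apply Submodule.sum_mem
  intro x _
  obtain ⟨c, hc⟩ := schur T hirr (w x ∘ₗ ρ x.out)
    (fun g => intertwine_of_eigen T hρ hρ (w x) x.out (hw2 x) g)
  have : w x = c • (ρ (x.out)⁻¹ : V →ₗ[k] V) := by
    ext v
    have := hc (ρ (x.out)⁻¹ v)
    rw [LinearMap.comp_apply, Theta.rep_apply_inv] at this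
    rw [this, LinearMap.smul_apply]
  rw [this]
  exact Submodule.smul_mem _ _ (Submodule.subset_span ⟨x, rfl⟩)

/-- the dimension of an irreducible weight one representation -/
theorem finrank_sq [IsAlgClosed k] [FiniteDimensional k V]
    (hN : (Fintype.card (Γ ⧸ ι.range) : k) ≠ 0) (hρ : IsWeightOne ι ρ) (hirr : IsIrreducible ρ) :
    Module.finrank k V ^ 2 = Fintype.card (Γ ⧸ ι.range) := by
  haveI : Nontrivial V := by
    haveI := hirr
    by_contra hV
    rw [not_nontrivial_iff_subsingleton] at hV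
    have : (⊥ : Subrepresentation ρ) = ⊤ := by
      apply Subrepresentation.toSubmodule_injective
      exact Subsingleton.elim _ _
    exact bot_ne_top this
  apply le_antisymm
  · have h1 : Module.finrank k (V →ₗ[k] V) ≤ Fintype.card (Γ ⧸ ι.range) := by
      have h2 := finrank_range_le_card (R := k)
        (fun x : Γ ⧸ ι.range => (ρ (x.out)⁻¹ : V →ₗ[k] V))
      have h3 := Submodule.finrank_mono (end_le_span T hN hρ hirr)
      rw [finrank_top] at h3
      exact h3.trans h2
    rw [Module.finrank_linearMap] at h1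
    rw [pow_two]
    exact h1
  · have h1 := (rep_linearIndependent T hN hρ).fintype_card_le_finrank
    rw [Module.finrank_linearMap] at h1
    rw [pow_two]
    exact h1

/-- two irreducible weight one representations are equivalent -/
theorem nonempty_equiv [IsAlgClosed k] [FiniteDimensional k V] [FiniteDimensional k W]
    (hN : (Fintype.card (Γ ⧸ ι.range) : k) ≠ 0) (hρ : IsWeightOne ι ρ) (hσ : IsWeightOne ι σ)
    (hirrρ : IsIrreducible ρ) (hirrσ : IsIrreducible σ) : Nonempty (Representation.Equiv ρ σ) := by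
  haveI := hirrρ
  haveI := hirrσ
  have hV : Nontrivial V := by
    by_contra hV
    rw [not_nontrivial_iff_subsingleton] at hV
    have : (⊥ : Subrepresentation ρ) = ⊤ := by
      apply Subrepresentation.toSubmodule_injective
      exact Subsingleton.elim _ _
    exact bot_ne_top this
  have hW : Nontrivial W := by
    by_contra hW
    rw [not_nontrivial_iff_subsingleton] at hW
    have : (⊥ : Subrepresentation σ) = ⊤ := by
      apply Subrepresentation.toSubmodule_injective
      exact Subsingleton.elim _ _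
    exact bot_ne_top this
  -- a nonzero linear map
  have hpos : 0 < Module.finrank k (V →ₗ[k] W) := by
    rw [Module.finrank_linearMap]
    exact Nat.mul_pos Module.finrank_pos Module.finrank_pos
  obtain ⟨f, hf⟩ : ∃ f : V →ₗ[k] W, f ≠ 0 := by
    haveI : Nontrivial (V →ₗ[k] W) := Module.finrank_pos_iff.mp hpos
    exact exists_ne 0
  obtain ⟨w, hw1, hw2⟩ := hom_decomp T hN hρ hσ f
  have hex : ∃ x, w x ≠ 0 := by
    by_contra hno
    push Not at hno
    apply hf
    rw [hw1]
    exact Finset.sum_eq_zero (fun x _ => hno x)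
  obtain ⟨x, hx⟩ := hex
  let Fi : IntertwiningMap ρ σ := ⟨w x ∘ₗ ρ x.out,
    fun g => intertwine_of_eigen T hρ hσ (w x) x.out (hw2 x) g⟩
  have hFi : Fi ≠ 0 := by
    intro h0
    apply hx
    ext v
    have : Fi (ρ (x.out)⁻¹ v) = 0 := by rw [h0]; rfl
    have h2 : Fi (ρ (x.out)⁻¹ v) = w x (ρ x.out (ρ (x.out)⁻¹ v)) := rfl
    rw [h2, Theta.rep_apply_inv] at this
    rw [this, LinearMap.zero_apply]
  rcases IsIrreducible.bijective_or_eq_zero Fi with hb | h0
  · exact ⟨Fi.ofBijective hb⟩
  · exact absurd h0 hFi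

end Groth.Agent.Lib.Helper6.ThetaRep
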