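import Mathlib
import Groth.Agent.Lib.Helper6.ThetaRep.Dim

set_option linter.unusedSectionVars false
set_option linter.unusedVariables false
set_option autoImplicit false
set_option maxHeartbeats 400000

noncomputable section

namespace Groth.Agent.Lib.Helper6.ThetaRep

open Representation

universe u

section Irr

variable {k : Type u} [Field k] {Γ : Type u} [Group Γ]
variable {V : Type u} [AddCommGroup V] [Module k V]

/-- push a subrepresentation of a subrepresentation forward -/
def pushSub {ρ : Representation k Γ V} (U : Subrepresentation ρ)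
    (U' : Subrepresentation U.toRepresentation) : Subrepresentation ρ where
  toSubmodule := U'.toSubmodule.map U.toSubmodule.subtype
  apply_mem_toSubmodule g v hv := by
    obtain ⟨u, hu, rfl⟩ := hv
    exact ⟨U.toRepresentation g u, U'.apply_mem_toSubmodule g hu, rfl⟩

theorem pushSub_le {ρ : Representation k Γ V} (U : Subrepresentation ρ)
    (U' : Subrepresentation U.toRepresentation) : (pushSub U U').toSubmodule ≤ U.toSubmodule := by
  rintro v ⟨u, -, rfl⟩
  exact u.2

/-- a nonzero finite-dimensional representation contains an irreducible subrepresentation -/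
theorem exists_irreducible_sub [FiniteDimensional k V] [Nontrivial V]
    (ρ : Representation k Γ V) :
    ∃ U : Subrepresentation ρ, IsIrreducible U.toRepresentation := by
  classical
  let S : Set ℕ := {n | ∃ U : Subrepresentation ρ, U.toSubmodule ≠ ⊥ ∧
    Module.finrank k U.toSubmodule = n}
  have hS : S.Nonempty := ⟨_, (⊤ : Subrepresentation ρ), by
    show (⊤ : Submodule k V) ≠ ⊥
    exact top_ne_bot, rfl⟩
  obtain ⟨U, hU0, hUn⟩ := Nat.sInf_mem hS
  have hmin : ∀ U' : Subrepresentation ρ, U'.toSubmodule ≠ ⊥ →
      Module.finrank k U.toSubmodule ≤ Module.finrank k U'.toSubmodule := by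
    intro U' hU'
    rw [hUn]
    exact Nat.sInf_le ⟨U', hU', rfl⟩
  refine ⟨U, ?_⟩
  refine { exists_pair_ne := ?_, eq_bot_or_eq_top := ?_ }
  · refine ⟨⊥, ⊤, ?_⟩
    intro h
    apply hU0
    have h1 : (⊥ : Submodule k U.toSubmodule) = ⊤ :=
      congrArg Subrepresentation.toSubmodule h
    rw [Submodule.eq_bot_iff]
    intro v hv
    have h2 : (⟨v, hv⟩ : U.toSubmodule) ∈ (⊤ : Submodule k U.toSubmodule) := Submodule.mem_top
    rw [← h1, Submodule.mem_bot] at h2
    exact congrArg Subtype.val h2
  · intro U'
    by_cases h0 : U'.toSubmodule = ⊥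
    · left
      exact Subrepresentation.toSubmodule_injective h0
    · right
      apply Subrepresentation.toSubmodule_injective
      show U'.toSubmodule = ⊤
      have h1 : (pushSub U U').toSubmodule ≠ ⊥ := by
        intro h
        apply h0
        have : U'.toSubmodule.map U.toSubmodule.subtype = ⊥ := h
        rw [Submodule.eq_bot_iff]
        intro u hu
        have h5 : (u : V) ∈ U'.toSubmodule.map U.toSubmodule.subtype := ⟨u, hu, rfl⟩
        rw [this, Submodule.mem_bot] at h5
        exact Subtype.ext h5
      have h2 := hmin (pushSub U U') h1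
      have h3 : (pushSub U U').toSubmodule = U.toSubmodule :=
        Submodule.eq_of_le_of_finrank_le (pushSub_le U U') h2
      rw [eq_top_iff]
      intro u _
      have h4 : (u : V) ∈ (pushSub U U').toSubmodule := by rw [h3]; exact u.2
      obtain ⟨u', hu', hu'u⟩ := h4
      have : u' = u := Subtype.ext hu'u
      rw [← this]
      exact hu'

end Irr

section Reg

variable {k : Type u} [Field k] {Γ : Type u} [Group Γ] {ι : kˣ →* Γ} (T : Theta ι)
  [Fintype (Γ ⧸ ι.range)]

/-- the space of functions of weight one -/
def RegSub (ι : kˣ →* Γ) : Submodule k (Γ → k) where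
  carrier := {f | ∀ (z : kˣ) (g : Γ), f (ι z * g) = (z : k) * f g}
  add_mem' := by
    intro f f' hf hf' z g
    show f (ι z * g) + f' (ι z * g) = (z : k) * (f g + f' g)
    rw [hf, hf', mul_add]
  zero_mem' := by
    intro z g
    show (0 : k) = (z : k) * 0
    rw [mul_zero]
  smul_mem' := by
    intro c f hf z g
    show c * f (ι z * g) = (z : k) * (c * f g)
    rw [hf]; ring

/-- right translation -/
def regRep (ι : kˣ →* Γ) : Representation k Γ (RegSub ι) where
  toFun γ :=
    { toFun := fun f => ⟨fun g => f.1 (g * γ), by
        intro z g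
        show f.1 (ι z * g * γ) = (z : k) * f.1 (g * γ)
        rw [mul_assoc, f.2]⟩
      map_add' := fun f f' => rfl
      map_smul' := fun c f => rfl }
  map_one' := by
    ext f g
    show f.1 (g * 1) = f.1 g
    rw [mul_one]
  map_mul' γ γ' := by
    ext f g
    show f.1 (g * (γ * γ')) = f.1 (g * γ * γ')
    rw [mul_assoc]

include T in
theorem regRep_weightOne : IsWeightOne ι (regRep (k := k) ι) := by
  intro z f
  ext g
  show f.1 (g * ι z) = (z : k) * f.1 g
  rw [← T.central, f.2]

/-- restriction to the representatives -/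
def regRestrict (ι : kˣ →* Γ) : RegSub (k := k) ι →ₗ[k] ((Γ ⧸ ι.range) → k) where
  toFun f := fun x => f.1 x.out
  map_add' := fun f f' => rfl
  map_smul' := fun c f => rfl

include T in
theorem regRestrict_injective : Function.Injective (regRestrict (k := k) ι) := by
  rw [← LinearMap.ker_eq_bot, Submodule.eq_bot_iff]
  intro f hf
  rw [LinearMap.mem_ker] at hf
  ext g
  show f.1 g = 0
  obtain ⟨b, hb⟩ := QuotientGroup.mk_out_eq_mul ι.range g
  obtain ⟨z, hz⟩ := b.2
  have h1 : g = ι z⁻¹ * (QuotientGroup.mk g : Γ ⧸ ι.range).out := by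
    rw [hb, ← hz, T.central, mul_assoc, ← map_mul, mul_inv_cancel, map_one, mul_one]
  have h2 : f.1 (QuotientGroup.mk g : Γ ⧸ ι.range).out = 0 :=
    congrFun hf (QuotientGroup.mk g)
  rw [h1, f.2, h2, mul_zero]

include T in
theorem regSub_finite : FiniteDimensional k (RegSub (k := k) ι) :=
  FiniteDimensional.of_injective (regRestrict (k := k) ι) (regRestrict_injective T)

include T in
theorem regSub_nontrivial : Nontrivial (RegSub (k := k) ι) := by
  classical
  let f₀ : Γ → k := fun g => if h : g ∈ ι.range then ((Classical.choose h : kˣ) : k) else 0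
  have hf₀ : f₀ ∈ RegSub (k := k) ι := by
    intro z g
    by_cases hg : g ∈ ι.range
    · have hzg : ι z * g ∈ ι.range := ι.range.mul_mem ⟨z, rfl⟩ hg
      show (if h : ι z * g ∈ ι.range then ((Classical.choose h : kˣ) : k) else 0) =
        (z : k) * (if h : g ∈ ι.range then ((Classical.choose h : kˣ) : k) else 0)
      rw [dif_pos hzg, dif_pos hg, ← Units.val_mul]
      congr 1
      apply T.inj
      rw [Classical.choose_spec hzg, map_mul, Classical.choose_spec hg]
    · have hzg : ι z * g ∉ ι.range := by
        intro h
        apply hg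
        have := ι.range.mul_mem (ι.range.inv_mem ⟨z, rfl⟩) h
        rwa [inv_mul_cancel_left] at this
      show (if h : ι z * g ∈ ι.range then ((Classical.choose h : kˣ) : k) else 0) =
        (z : k) * (if h : g ∈ ι.range then ((Classical.choose h : kˣ) : k) else 0)
      rw [dif_neg hzg, dif_neg hg, mul_zero]
  refine ⟨⟨⟨f₀, hf₀⟩, 0, ?_⟩⟩
  intro h
  have h1 : f₀ 1 = 0 := congrFun (congrArg Subtype.val h) 1
  have h1mem : (1 : Γ) ∈ ι.range := ι.range.one_mem
  have h2 : f₀ 1 = ((Classical.choose h1mem : kˣ) : k) := dif_pos h1mem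
  rw [h2] at h1
  exact (Classical.choose h1mem : kˣ).ne_zero h1

include T in
/-- existence of an irreducible weight one representation -/
theorem exists_irreducible_weightOne :
    ∃ (U : Type u) (_ : AddCommGroup U) (_ : Module k U) (_ : FiniteDimensional k U)
      (σ : Representation k Γ U), IsIrreducible σ ∧ IsWeightOne ι σ := by
  haveI := regSub_finite (k := k) T
  haveI := regSub_nontrivial (k := k) T
  obtain ⟨U, hU⟩ := exists_irreducible_sub (regRep (k := k) ι)
  refine ⟨U.toSubmodule, inferInstance, inferInstance, inferInstance, U.toRepresentation, hU, ?_⟩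
  intro z u
  apply Subtype.ext
  show regRep (k := k) ι (ι z) (u : RegSub (k := k) ι) = (z : k) • (u : RegSub (k := k) ι)
  exact regRep_weightOne T z u

end Reg

end Groth.Agent.Lib.Helper6.ThetaRep
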