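import Mathlib
import Groth.Agent.Lib.Helper6.ThetaRep.Exist

set_option linter.unusedSectionVars false
set_option linter.unusedVariables false
set_option autoImplicit false
set_option maxHeartbeats 400000

noncomputable section

namespace Groth.Agent.Lib.Helper6.ThetaRep

open Representation

universe u

section Maschke

variable {k : Type u} [Field k] {Γ : Type u} [Group Γ] {ι : kˣ →* Γ} (T : Theta ι)
  [Fintype (Γ ⧸ ι.range)]
variable {W : Type u} [AddCommGroup W] [Module k W] {ρ : Representation k Γ W}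

/-- complement from an equivariant projection -/
theorem exists_isCompl_of_proj (U : Subrepresentation ρ) (P : W →ₗ[k] W)
    (h1 : ∀ w, P w ∈ U.toSubmodule) (h2 : ∀ u ∈ U.toSubmodule, P u = u)
    (h3 : ∀ g w, P (ρ g w) = ρ g (P w)) : ∃ U' : Subrepresentation ρ, IsCompl U U' := by
  refine ⟨⟨LinearMap.ker P, ?_⟩, ?_⟩
  · intro g v hv
    rw [LinearMap.mem_ker] at hv ⊢
    rw [h3, hv, map_zero]
  · constructor
    · rw [disjoint_iff]
      apply Subrepresentation.toSubmodule_injective
      show U.toSubmodule ⊓ LinearMap.ker P = ⊥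
      rw [Submodule.eq_bot_iff]
      rintro u ⟨hu, hu'⟩
      rw [← h2 u hu]
      exact hu'
    · rw [codisjoint_iff]
      apply Subrepresentation.toSubmodule_injective
      show U.toSubmodule ⊔ LinearMap.ker P = ⊤
      rw [eq_top_iff]
      intro w _
      rw [Submodule.mem_sup]
      refine ⟨P w, h1 w, w - P w, ?_, by abel⟩
      rw [LinearMap.mem_ker, map_sub, h2 _ (h1 w), sub_self]

/-- the conjugate of a linear endomorphism -/
def conj (ρ : Representation k Γ W) (p : W →ₗ[k] W) (a : Γ) : W →ₗ[k] W :=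
  ρ a ∘ₗ p ∘ₗ ρ a⁻¹

theorem conj_apply (p : W →ₗ[k] W) (a : Γ) (w : W) : conj ρ p a w = ρ a (p (ρ a⁻¹ w)) := rfl

include T in
theorem conj_range (hρ : IsWeightOne ι ρ) (p : W →ₗ[k] W) (a b : Γ) (hb : b ∈ ι.range) :
    conj ρ p (a * b) = conj ρ p a := by
  obtain ⟨z, rfl⟩ := hb
  ext w
  simp only [conj_apply]
  rw [mul_inv_rev, map_mul, map_mul, Module.End.mul_apply, Module.End.mul_apply, ← map_inv, hρ, hρ,
    map_smul, map_smul, map_smul, smul_smul, ← Units.val_mul, mul_inv_cancel, Units.val_one,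
    one_smul]

theorem conj_mul (p : W →ₗ[k] W) (g a : Γ) (w : W) :
    conj ρ p (g * a) (ρ g w) = ρ g (conj ρ p a w) := by
  simp only [conj_apply]
  rw [mul_inv_rev, map_mul, map_mul, Module.End.mul_apply, Module.End.mul_apply,
    Theta.rep_inv_apply]

include T in
/-- Maschke's theorem for representations of weight one -/
theorem semisimple (hN : (Fintype.card (Γ ⧸ ι.range) : k) ≠ 0) (hρ : IsWeightOne ι ρ) :
    IsSemisimpleRepresentation ρ := by
  refine ⟨fun U => ?_⟩
  obtain ⟨π, hπ⟩ := U.toSubmodule.subtype.exists_leftInverse_of_injective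
    (Submodule.ker_subtype _)
  let p : W →ₗ[k] W := U.toSubmodule.subtype ∘ₗ π
  have hp1 : ∀ w, p w ∈ U.toSubmodule := fun w => (π w).2
  have hp2 : ∀ u ∈ U.toSubmodule, p u = u := by
    intro u hu
    have := LinearMap.congr_fun hπ ⟨u, hu⟩
    show ((π u : U.toSubmodule) : W) = u
    exact congrArg Subtype.val this
  let S : W →ₗ[k] W := sumQ ι.range (conj ρ p)
  have hS : ∀ w, S w = ∑ x : Γ ⧸ ι.range, conj ρ p x.out w := by
    intro w
    show (∑ x : Γ ⧸ ι.range, conj ρ p x.out) w = _
    rw [LinearMap.sum_apply]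
  let P : W →ₗ[k] W := (Fintype.card (Γ ⧸ ι.range) : k)⁻¹ • S
  apply exists_isCompl_of_proj U P
  · intro w
    show (Fintype.card (Γ ⧸ ι.range) : k)⁻¹ • S w ∈ U.toSubmodule
    apply Submodule.smul_mem
    rw [hS]
    apply Submodule.sum_mem
    intro x _
    rw [conj_apply]
    exact U.apply_mem_toSubmodule _ (hp1 _)
  · intro u hu
    show (Fintype.card (Γ ⧸ ι.range) : k)⁻¹ • S u = u
    rw [hS]
    have : ∀ x : Γ ⧸ ι.range, conj ρ p x.out u = u := by
      intro x
      rw [conj_apply, hp2 _ (U.apply_mem_toSubmodule _ hu), Theta.rep_apply_inv]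
    simp only [this]
    rw [Finset.sum_const, Finset.card_univ, ← Nat.cast_smul_eq_nsmul k, smul_smul,
      inv_mul_cancel₀ hN, one_smul]
  · intro g w
    show (Fintype.card (Γ ⧸ ι.range) : k)⁻¹ • S (ρ g w) = ρ g ((Fintype.card (Γ ⧸ ι.range) : k)⁻¹ • S w)
    rw [map_smul]
    congr 1
    have h1 : S = sumQ ι.range (fun a => conj ρ p (g * a)) :=
      (sumQ_mul_left ι.range (conj ρ p) (conj_range T hρ p) g).symm
    have h2 : S (ρ g w) = ∑ x : Γ ⧸ ι.range, conj ρ p (g * x.out) (ρ g w) := by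
      conv_lhs => rw [h1]
      show (∑ x : Γ ⧸ ι.range, conj ρ p (g * x.out)) (ρ g w) = _
      rw [LinearMap.sum_apply]
    rw [h2, hS, map_sum]
    apply Finset.sum_congr rfl
    intro x _
    exact conj_mul p g x.out w

end Maschke

end Groth.Agent.Lib.Helper6.ThetaRep
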