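import Mathlib
import Groth.Agent.Lib.Helper6.ThetaRep.Maschke

set_option linter.unusedSectionVars false
set_option linter.unusedVariables false
set_option autoImplicit false
set_option maxHeartbeats 400000

noncomputable section

namespace Groth.Agent.Lib.Helper6.ThetaRep

open Representation

universe u

section Level

variable {k : Type u} [Field k] {Γ : Type u} [Group Γ] {ι : kˣ →* Γ} (T : Theta ι)
  [Fintype (Γ ⧸ ι.range)]
variable (H : Subgroup Γ)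

include T in
theorem range_normal : ι.range.Normal := by
  rw [T.cent]; infer_instance

include T in
theorem pow_card_mem_range (g : Γ) : g ^ Fintype.card (Γ ⧸ ι.range) ∈ ι.range := by
  haveI := range_normal T
  have h := pow_card_eq_one (x := (QuotientGroup.mk g : Γ ⧸ ι.range))
  rw [← QuotientGroup.mk_pow, QuotientGroup.eq_one_iff] at h
  exact h

theorem level_eq_one {H : Subgroup Γ} (hH : H ⊓ ι.range = ⊥) {x : Γ} (hx : x ∈ H)
    (hx' : x ∈ ι.range) : x = 1 := by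
  have : x ∈ H ⊓ ι.range := ⟨hx, hx'⟩
  rw [hH] at this
  exact Subgroup.mem_bot.mp this

include T in
theorem level_comm {H : Subgroup Γ} (hH : H ⊓ ι.range = ⊥) {h h' : Γ} (hh : h ∈ H)
    (hh' : h' ∈ H) : h * h' = h' * h := by
  have h1 : h * h' * h⁻¹ * h'⁻¹ = 1 :=
    level_eq_one hH (H.mul_mem (H.mul_mem (H.mul_mem hh hh') (H.inv_mem hh)) (H.inv_mem hh'))
      (T.comm_mem h h')
  have h2 := T.mul_eq h h'
  rw [T.e_spec, h1, one_mul] at h2
  exact h2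

/-- the subgroup `H · ι(kˣ)` -/
def HR (H : Subgroup Γ) : Subgroup Γ where
  carrier := {g | ∃ h ∈ H, ∃ z : kˣ, g = h * ι z}
  one_mem' := ⟨1, H.one_mem, 1, by rw [map_one, mul_one]⟩
  mul_mem' := by
    rintro _ _ ⟨h, hh, z, rfl⟩ ⟨h', hh', z', rfl⟩
    refine ⟨h * h', H.mul_mem hh hh', z * z', ?_⟩
    rw [map_mul, mul_assoc, ← mul_assoc (ι z), T.central z h', mul_assoc, ← mul_assoc]
  inv_mem' := by
    rintro _ ⟨h, hh, z, rfl⟩
    refine ⟨h⁻¹, H.inv_mem hh, z⁻¹, ?_⟩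
    rw [mul_inv_rev, ← map_inv, T.central]

theorem mem_HR (g : Γ) : g ∈ HR T H ↔ ∃ h ∈ H, ∃ z : kˣ, g = h * ι z := Iff.rfl

theorem le_HR : H ≤ HR T H := fun h hh => ⟨h, hh, 1, by rw [map_one, mul_one]⟩

theorem range_le_HR : ι.range ≤ HR T H := by
  rintro _ ⟨z, rfl⟩
  exact ⟨1, H.one_mem, z, by rw [one_mul]⟩

/-- the subgroup generated by `H` and an element commuting with `H` -/
def extSub (H : Subgroup Γ) (g' : Γ) (hg' : ∀ h ∈ H, g' * h = h * g') : Subgroup Γ where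
  carrier := {x | ∃ h ∈ H, ∃ j : ℤ, x = h * g' ^ j}
  one_mem' := ⟨1, H.one_mem, 0, by rw [zpow_zero, mul_one]⟩
  mul_mem' := by
    rintro _ _ ⟨h, hh, j, rfl⟩ ⟨h', hh', j', rfl⟩
    refine ⟨h * h', H.mul_mem hh hh', j + j', ?_⟩
    have hc : Commute (g' ^ j) h' := (show Commute g' h' from hg' h' hh').zpow_left j
    rw [zpow_add, mul_assoc, ← mul_assoc (g' ^ j), hc.eq, mul_assoc, ← mul_assoc]
  inv_mem' := by
    rintro _ ⟨h, hh, j, rfl⟩
    refine ⟨h⁻¹, H.inv_mem hh, -j, ?_⟩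
    have hc : Commute (g' ^ (-j)) h⁻¹ :=
      ((show Commute g' h from hg' h hh).inv_right).zpow_left (-j)
    rw [mul_inv_rev, ← zpow_neg, hc.eq]

/-- divisibility by the minimal exponent -/
theorem dvd_of_min (M : Subgroup Γ) (g : Γ) (r : ℕ) (hr0 : 0 < r) (hr : g ^ r ∈ M)
    (hrmin : ∀ s : ℕ, 0 < s → g ^ s ∈ M → r ≤ s) (j : ℤ) (hj : g ^ j ∈ M) : (r : ℤ) ∣ j := by
  have hr0' : (r : ℤ) ≠ 0 := by exact_mod_cast hr0.ne'
  have hs0 : 0 ≤ j % (r : ℤ) := Int.emod_nonneg _ hr0'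
  have hsr : j % (r : ℤ) < r := Int.emod_lt_of_pos _ (by exact_mod_cast hr0)
  have hgs : g ^ (j % (r : ℤ)) ∈ M := by
    have : j % (r : ℤ) = j - r * (j / r) := by rw [Int.emod_def]
    rw [this, zpow_sub, zpow_mul, zpow_natCast]
    exact M.mul_mem hj (M.inv_mem (M.zpow_mem hr _))
  obtain ⟨s, hs⟩ := Int.eq_ofNat_of_zero_le hs0
  rw [hs] at hgs hsr
  rw [zpow_natCast] at hgs
  have hs' : s = 0 := by
    by_contra hne
    have := hrmin s (Nat.pos_of_ne_zero hne) hgs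
    have : (s : ℤ) < r := hsr
    omega
  apply Int.dvd_of_emod_eq_zero
  rw [hs, hs']
  rfl

include T in
/-- a maximal level subgroup is Lagrangian: an element commuting with `H` lies in `H · ι(kˣ)` -/
theorem lagrangian [IsAlgClosed k] (hH : H ⊓ ι.range = ⊥)
    (hmax : ∀ H' : Subgroup Γ, H' ⊓ ι.range = ⊥ → H ≤ H' → H' = H)
    (g : Γ) (hg : ∀ h ∈ H, g * h = h * g) : g ∈ HR T H := by
  classical
  have hex : ∃ r : ℕ, 0 < r ∧ g ^ r ∈ HR T H :=
    ⟨Fintype.card (Γ ⧸ ι.range), Fintype.card_pos, range_le_HR T H (pow_card_mem_range T g)⟩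
  obtain ⟨hr0, hr⟩ := Nat.find_spec hex
  have hrmin : ∀ s : ℕ, 0 < s → g ^ s ∈ HR T H → Nat.find hex ≤ s :=
    fun s hs hs' => Nat.find_min' hex ⟨hs, hs'⟩
  generalize Nat.find hex = r at hr0 hr hrmin
  obtain ⟨h₀, hh₀, z₀, hz₀⟩ := hr
  obtain ⟨c₀, hc₀⟩ := IsAlgClosed.exists_pow_nat_eq ((z₀⁻¹ : kˣ) : k) hr0
  have hc₀ne : c₀ ≠ 0 := by
    intro h
    rw [h, zero_pow hr0.ne'] at hc₀
    exact (z₀⁻¹).ne_zero hc₀.symm
  have hc : (Units.mk0 c₀ hc₀ne) ^ r = z₀⁻¹ := by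
    apply Units.ext
    rw [Units.val_pow_eq_pow_val, Units.val_mk0]
    exact hc₀
  generalize Units.mk0 c₀ hc₀ne = c at hc
  have hcomm : Commute g (ι c) := (T.central c g).symm
  have hg'r : (g * ι c) ^ r = h₀ := by
    rw [hcomm.mul_pow, hz₀, ← map_pow, hc, mul_assoc, ← map_mul, mul_inv_cancel, map_one, mul_one]
  have hg'comm : ∀ h ∈ H, (g * ι c) * h = h * (g * ι c) := by
    intro h hh
    rw [mul_assoc, T.central c h, ← mul_assoc, hg h hh, mul_assoc]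
  have hlevel : extSub H (g * ι c) hg'comm ⊓ ι.range = ⊥ := by
    rw [eq_bot_iff]
    rintro x ⟨⟨h, hh, j, rfl⟩, hx2⟩
    rw [Subgroup.mem_bot]
    -- g^j ∈ HR
    have h1 : (g * ι c) ^ j = g ^ j * ι (c ^ j) := by
      rw [hcomm.mul_zpow, map_zpow]
    have h2 : g ^ j ∈ HR T H := by
      have h3 : g ^ j = h⁻¹ * (h * (g * ι c) ^ j) * (ι (c ^ j))⁻¹ := by
        rw [h1, inv_mul_cancel_left, mul_inv_cancel_right]
      rw [h3]
      exact (HR T H).mul_mem ((HR T H).mul_mem (le_HR T H (H.inv_mem hh)) (range_le_HR T H hx2))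
        ((HR T H).inv_mem (range_le_HR T H ⟨_, rfl⟩))
    obtain ⟨q, rfl⟩ := dvd_of_min (HR T H) g r hr0 ⟨h₀, hh₀, z₀, hz₀⟩ hrmin j h2
    have h4 : (g * ι c) ^ ((r : ℤ) * q) ∈ H := by
      rw [zpow_mul, zpow_natCast, hg'r]
      exact H.zpow_mem hh₀ q
    exact level_eq_one hH (H.mul_mem hh h4) hx2
  have hle : H ≤ extSub H (g * ι c) hg'comm :=
    fun h hh => ⟨h, hh, 0, by rw [zpow_zero, mul_one]⟩
  have heq := hmax _ hlevel hle
  have hmem : g * ι c ∈ H := by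
    rw [← heq]
    exact ⟨1, H.one_mem, 1, by rw [zpow_one, one_mul]⟩
  refine ⟨g * ι c, hmem, c⁻¹, ?_⟩
  rw [mul_assoc, ← map_mul, mul_inv_cancel, map_one, mul_one]

end Level

end Groth.Agent.Lib.Helper6.ThetaRep
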