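import Mathlib
import Groth.Agent.Lib.Helper6.ThetaRep.Level

set_option linter.unusedSectionVars false
set_option linter.unusedVariables false
set_option autoImplicit false
set_option maxHeartbeats 400000

noncomputable section

namespace Groth.Agent.Lib.Helper6.ThetaRep

open Representation

universe u

section Inv

variable {k : Type u} [Field k] {Γ : Type u} [Group Γ] {ι : kˣ →* Γ} (T : Theta ι)
  [Fintype (Γ ⧸ ι.range)]
variable (H : Subgroup Γ)
variable {V : Type u} [AddCommGroup V] [Module k V] {ρ : Representation k Γ V}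

theorem nontrivial_of_irreducible (hirr : IsIrreducible ρ) : Nontrivial V := by
  haveI := hirr
  by_contra hV
  rw [not_nontrivial_iff_subsingleton] at hV
  have : (⊥ : Subrepresentation ρ) = ⊤ := by
    apply Subrepresentation.toSubmodule_injective
    exact Subsingleton.elim _ _
  exact bot_ne_top this

include T in
theorem level_injective (hH : H ⊓ ι.range = ⊥) :
    Function.Injective (fun h : H => (QuotientGroup.mk (h : Γ) : Γ ⧸ ι.range)) := by
  intro h h' hhh'
  have h1 : (h : Γ)⁻¹ * h' ∈ ι.range := QuotientGroup.eq.mp hhh'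
  have h2 := level_eq_one hH (H.mul_mem (H.inv_mem h.2) h'.2) h1
  apply Subtype.ext
  exact inv_mul_eq_one.mp h2

include T in
theorem level_finite (hH : H ⊓ ι.range = ⊥) : Finite H :=
  Finite.of_injective _ (level_injective T H hH)

include T in
theorem level_card_dvd (hH : H ⊓ ι.range = ⊥) :
    Nat.card H ∣ Fintype.card (Γ ⧸ ι.range) := by
  haveI := range_normal T
  have := Subgroup.card_dvd_of_injective ((QuotientGroup.mk' ι.range).comp H.subtype)
    (level_injective T H hH)
  rwa [Nat.card_eq_fintype_card (α := Γ ⧸ ι.range)] at this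

include T in
theorem level_card_ne_zero (hN : (Fintype.card (Γ ⧸ ι.range) : k) ≠ 0) (hH : H ⊓ ι.range = ⊥) :
    (Nat.card H : k) ≠ 0 := by
  obtain ⟨m, hm⟩ := level_card_dvd T H hH
  intro h0
  apply hN
  rw [hm, Nat.cast_mul, h0, zero_mul]

/-- orthogonality on `H` -/
theorem sum_e_level [Fintype H] (g : Γ) (h₁ : Γ) (hh₁ : h₁ ∈ H) (hne : T.e h₁ g ≠ 1) :
    ∑ h : H, ((T.e (h : Γ) g : kˣ) : k) = 0 := by
  have key : ∑ h : H, ((T.e ((⟨h₁, hh₁⟩ * h : H) : Γ) g : kˣ) : k) =
      ∑ h : H, ((T.e (h : Γ) g : kˣ) : k) :=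
    Fintype.sum_equiv (Equiv.mulLeft (⟨h₁, hh₁⟩ : H)) _ _ (fun h => rfl)
  simp only [Subgroup.coe_mul, T.e_mul_left, Units.val_mul] at key
  rw [← Finset.mul_sum] at key
  have h2 : (((T.e h₁ g : kˣ) : k) - 1) * ∑ h : H, ((T.e (h : Γ) g : kˣ) : k) = 0 := by
    rw [sub_mul, key, one_mul, sub_self]
  rcases mul_eq_zero.mp h2 with h3 | h3
  · exfalso
    apply hne
    apply Units.ext
    rw [Units.val_one]
    exact sub_eq_zero.mp h3
  · exact h3

include T in
/-- a nonzero invariant vector -/
theorem exists_invariant [Nontrivial V] (hN : (Fintype.card (Γ ⧸ ι.range) : k) ≠ 0)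
    (hρ : IsWeightOne ι ρ) (hH : H ⊓ ι.range = ⊥) :
    ∃ v : V, v ≠ 0 ∧ ∀ h ∈ H, ρ h v = v := by
  classical
  haveI : Finite H := level_finite T H hH
  haveI : Fintype (H ⧸ (⊥ : Subgroup H)) := Fintype.ofFinite _
  obtain ⟨v, hv⟩ := exists_ne (0 : V)
  obtain ⟨w, hw1, hw2⟩ := eigen_decomp (k := k) (⊥ : Subgroup H) (ρ.comp H.subtype)
    (by
      intro b hb v
      rw [Subgroup.mem_bot] at hb
      rw [hb, map_one]; rfl)
    (fun x : Γ ⧸ ι.range => (T.eL x.out).comp H.subtype)
    (by
      intro x b hb
      rw [Subgroup.mem_bot] at hb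
      rw [hb, map_one])
    (by
      intro a ha
      have ha' : (a : Γ) ∉ ι.range := by
        intro h
        apply ha
        rw [Subgroup.mem_bot]
        apply Subtype.ext
        exact level_eq_one hH a.2 h
      exact sum_e_left T ha')
    hN v
  have hex : ∃ x, w x ≠ 0 := by
    by_contra hno
    push Not at hno
    apply hv
    rw [hw1]
    exact Finset.sum_eq_zero (fun x _ => hno x)
  obtain ⟨x, hx⟩ := hex
  refine ⟨ρ x.out (w x), ?_, ?_⟩
  · intro h0
    apply hx
    have := congrArg (ρ (x.out)⁻¹) h0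
    rwa [Theta.rep_inv_apply, map_zero] at this
  · intro h hh
    have h1 : ρ h (w x) = ((T.e x.out h : kˣ) : k) • w x := hw2 x ⟨h, hh⟩
    rw [T.rep_comm hρ h x.out, h1, map_smul, smul_smul, ← Units.val_mul, T.e_swap h x.out,
      mul_inv_cancel, Units.val_one, one_smul]

include T in
/-- the sum over `H` of the translates of a vector in the span of the orbit of an invariant
vector is a multiple of that vector -/
theorem sum_mem_span [IsAlgClosed k] [Fintype H] (hρ : IsWeightOne ι ρ) (hH : H ⊓ ι.range = ⊥)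
    (hmax : ∀ H' : Subgroup Γ, H' ⊓ ι.range = ⊥ → H ≤ H' → H' = H)
    (v₀ : V) (hv₀ : ∀ h ∈ H, ρ h v₀ = v₀) (w : V)
    (hw : w ∈ Submodule.span k (Set.range (fun g : Γ => ρ g v₀))) :
    ∑ h : H, ρ (h : Γ) w ∈ Submodule.span k {v₀} := by
  induction hw using Submodule.span_induction with
  | mem w hw =>
    obtain ⟨g, rfl⟩ := hw
    have h1 : ∀ h : H, ρ (h : Γ) (ρ g v₀) = ((T.e (h : Γ) g : kˣ) : k) • ρ g v₀ := by
      intro h
      rw [T.rep_comm hρ (h : Γ) g, hv₀ _ h.2]
    simp only [h1]
    rw [← Finset.sum_smul]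
    by_cases hg : g ∈ HR T H
    · obtain ⟨h', hh', z, rfl⟩ := hg
      apply Submodule.smul_mem
      rw [map_mul, Module.End.mul_apply, hρ, map_smul, hv₀ _ hh']
      exact Submodule.smul_mem _ _ (Submodule.mem_span_singleton_self v₀)
    · have hex : ∃ h₁ ∈ H, T.e h₁ g ≠ 1 := by
        by_contra hno
        push Not at hno
        apply hg
        apply lagrangian T H hH hmax
        intro h hh
        have := T.mul_eq h g
        rw [hno h hh, map_one, one_mul] at this
        exact this.symm
      obtain ⟨h₁, hh₁, hne⟩ := hex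
      rw [sum_e_level T H g h₁ hh₁ hne, zero_smul]
      exact Submodule.zero_mem _
  | zero =>
    simp only [map_zero, Finset.sum_const_zero]
    exact Submodule.zero_mem _
  | add x y _ _ hx hy =>
    simp only [map_add, Finset.sum_add_distrib]
    exact Submodule.add_mem _ hx hy
  | smul c x _ hx =>
    simp only [map_smul]
    rw [← Finset.smul_sum]
    exact Submodule.smul_mem _ _ hx

include T in
/-- the space of `H`-invariants of an irreducible representation of weight one is a line -/
theorem finrank_invariants [IsAlgClosed k] [FiniteDimensional k V]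
    (hN : (Fintype.card (Γ ⧸ ι.range) : k) ≠ 0) (hρ : IsWeightOne ι ρ) (hirr : IsIrreducible ρ)
    (hH : H ⊓ ι.range = ⊥)
    (hmax : ∀ H' : Subgroup Γ, H' ⊓ ι.range = ⊥ → H ≤ H' → H' = H) :
    Module.finrank k (invariants (ρ.comp H.subtype)) = 1 := by
  classical
  haveI := hirr
  haveI : Nontrivial V := nontrivial_of_irreducible hirr
  haveI : Finite H := level_finite T H hH
  haveI : Fintype H := Fintype.ofFinite _
  obtain ⟨v₀, hv₀ne, hv₀⟩ := exists_invariant T H hN hρ hH (ρ := ρ)
  -- the span of the orbit is everything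
  let U : Subrepresentation ρ :=
    { toSubmodule := Submodule.span k (Set.range (fun g : Γ => ρ g v₀))
      apply_mem_toSubmodule := by
        intro g v hv
        induction hv using Submodule.span_induction with
        | mem w hw =>
          obtain ⟨g', rfl⟩ := hw
          apply Submodule.subset_span
          exact ⟨g * g', by simp only [map_mul, Module.End.mul_apply]⟩
        | zero => rw [map_zero]; exact Submodule.zero_mem _
        | add x y _ _ hx hy => rw [map_add]; exact Submodule.add_mem _ hx hy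
        | smul c x _ hx => rw [map_smul]; exact Submodule.smul_mem _ _ hx }
  have hU : U = ⊤ := by
    rcases eq_bot_or_eq_top U with h | h
    · exfalso
      apply hv₀ne
      have h1 : v₀ ∈ U.toSubmodule := Submodule.subset_span ⟨1, by simp⟩
      rw [h] at h1
      exact (Submodule.mem_bot k).mp h1
    · exact h
  have hcard : (Fintype.card H : k) ≠ 0 := by
    have := level_card_ne_zero T H hN hH
    rwa [Nat.card_eq_fintype_card] at this
  have hv₀inv : v₀ ∈ invariants (ρ.comp H.subtype) := fun h => hv₀ h h.2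
  rw [finrank_eq_one_iff_of_nonzero' (⟨v₀, hv₀inv⟩ : invariants (ρ.comp H.subtype))
    (fun h => hv₀ne (congrArg Subtype.val h))]
  intro w
  have hwU : (w : V) ∈ U.toSubmodule := by
    rw [hU]; exact Submodule.mem_top
  have h1 := sum_mem_span T H hρ hH hmax v₀ hv₀ (w : V) hwU
  have h2 : ∑ h : H, ρ (h : Γ) (w : V) = (Fintype.card H : k) • (w : V) := by
    have : ∀ h : H, ρ (h : Γ) (w : V) = (w : V) := fun h => w.2 h
    simp only [this]
    rw [Finset.sum_const, Finset.card_univ, Nat.cast_smul_eq_nsmul]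
  rw [h2] at h1
  have h3 : (w : V) ∈ Submodule.span k {v₀} := by
    have := Submodule.smul_mem _ (Fintype.card H : k)⁻¹ h1
    rwa [smul_smul, inv_mul_cancel₀ hcard, one_smul] at this
  obtain ⟨c, hc⟩ := Submodule.mem_span_singleton.mp h3
  exact ⟨c, Subtype.ext hc⟩

end Inv

end Groth.Agent.Lib.Helper6.ThetaRep
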