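import Mathlib
import Groth.Agent.Lib.Helper6.ThetaRep.Pairing

set_option linter.unusedSectionVars false
set_option linter.unusedVariables false
set_option autoImplicit false
set_option maxHeartbeats 400000

noncomputable section

namespace Groth.Agent.Lib.Helper6.ThetaRep

universe u

section Chars

/-- an injective family of characters which factor through a finite quotient set has at most as
many members as the quotient -/
theorem card_le_of_chars {G : Type u} [Group G] {k : Type u} [Field k] {S Q : Type u}
    [Fintype S] [Fintype Q] (φ : S → (G →* kˣ)) (hφ : Function.Injective φ) (π : G → Q)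
    (hsurj : Function.Surjective π)
    (hπ : ∀ s g g', π g = π g' → φ s g = φ s g') : Fintype.card S ≤ Fintype.card Q := by
  classical
  have hD := linearIndependent_monoidHom G k
  have hinj : Function.Injective (fun s : S => (Units.coeHom k).comp (φ s)) := by
    intro s s' hss'
    apply hφ
    ext g
    exact congrArg (fun f : G →* k => f g) hss'
  have hD' : LinearIndependent k (fun s : S => (((Units.coeHom k).comp (φ s) : G →* k) : G → k)) :=
    hD.comp _ hinj
  have hli : LinearIndependent k
      (fun s : S => (fun q : Q => ((φ s (Function.surjInv hsurj q) : kˣ) : k))) := by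
    rw [Fintype.linearIndependent_iff] at hD' ⊢
    intro c hc
    apply hD' c
    ext g
    have h1 := congrFun hc (π g)
    rw [Finset.sum_apply] at h1 ⊢
    rw [Pi.zero_apply] at h1 ⊢
    rw [← h1]
    apply Finset.sum_congr rfl
    intro s _
    show c s * ((φ s g : kˣ) : k) = c s * ((φ s (Function.surjInv hsurj (π g)) : kˣ) : k)
    rw [hπ s g (Function.surjInv hsurj (π g)) (Function.surjInv_eq hsurj (π g)).symm]
  have := hli.fintype_card_le_finrank
  rwa [Module.finrank_fintype_fun_eq_card] at this

end Chars

section Lagr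

variable {k : Type u} [Field k] {Γ : Type u} [Group Γ] {ι : kˣ →* Γ} (T : Theta ι)

theorem e_eq_one_of_comm {g h : Γ} (hgh : g * h = h * g) : T.e g h = 1 :=
  T.e_unique g h 1 (by rw [map_one, one_mul]; exact hgh)

theorem comm_of_e_eq_one {g h : Γ} (hgh : T.e g h = 1) : g * h = h * g := by
  have := T.mul_eq g h
  rwa [hgh, map_one, one_mul] at this

include T in
theorem range_le_centralizer (H : Subgroup Γ) : ι.range ≤ Subgroup.centralizer (H : Set Γ) := by
  rintro _ ⟨z, rfl⟩
  rw [Subgroup.mem_centralizer_iff]
  intro h _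
  exact (T.central z h).symm

include T in
/-- the orthogonal of `H / ι(kˣ)` has complementary order -/
theorem relIndex_eq_index_centralizer [Finite (Γ ⧸ ι.range)] (H : Subgroup Γ)
    (hH : ι.range ≤ H) :
    ι.range.relIndex H = (Subgroup.centralizer (H : Set Γ)).index := by
  classical
  haveI : ι.range.FiniteIndex := Subgroup.finiteIndex_of_finite_quotient
  haveI : (Subgroup.centralizer (H : Set Γ)).FiniteIndex :=
    Subgroup.finiteIndex_of_le (range_le_centralizer T H)
  haveI : (ι.range.subgroupOf H).FiniteIndex := inferInstance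
  letI : Fintype (Γ ⧸ Subgroup.centralizer (H : Set Γ)) := Fintype.ofFinite _
  letI : Fintype (H ⧸ ι.range.subgroupOf H) := Fintype.ofFinite _
  have h1 : ι.range.relIndex H = Fintype.card (H ⧸ ι.range.subgroupOf H) := by
    rw [Subgroup.relIndex, Subgroup.index, Nat.card_eq_fintype_card]
  have h2 : (Subgroup.centralizer (H : Set Γ)).index =
      Fintype.card (Γ ⧸ Subgroup.centralizer (H : Set Γ)) := by
    rw [Subgroup.index, Nat.card_eq_fintype_card]
  rw [h1, h2]
  apply le_antisymm
  · -- characters `e(·, a)` of `Γ` for `a ∈ H / range`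
    apply card_le_of_chars (G := Γ) (k := k)
      (fun a : H ⧸ ι.range.subgroupOf H => T.eR ((a.out : H) : Γ))
      ?_ (QuotientGroup.mk : Γ → Γ ⧸ Subgroup.centralizer (H : Set Γ)) QuotientGroup.mk_surjective ?_
    · intro a a' haa'
      rw [← QuotientGroup.out_eq' a, ← QuotientGroup.out_eq' a', QuotientGroup.eq]
      rw [Subgroup.mem_subgroupOf]
      apply T.nondeg_right
      intro g
      have := congrArg (fun f : Γ →* kˣ => f g) haa'
      simp only [Theta.eR_apply] at this
      rw [Subgroup.coe_mul, Subgroup.coe_inv, T.e_mul_right, T.e_inv_right, this, inv_mul_cancel]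
    · intro a g g' hgg'
      have h3 : g⁻¹ * g' ∈ Subgroup.centralizer (H : Set Γ) := QuotientGroup.eq.mp hgg'
      rw [Subgroup.mem_centralizer_iff] at h3
      have h4 : T.e (g⁻¹ * g') ((a.out : H) : Γ) = 1 :=
        e_eq_one_of_comm T (h3 _ (a.out : H).2).symm
      rw [T.e_mul_left, T.e_inv_left, inv_mul_eq_one] at h4
      simp only [Theta.eR_apply]
      exact h4
  · -- characters `e(x, ·)` of `H` for `x ∈ Γ / C(H)`
    apply card_le_of_chars (G := H) (k := k)
      (fun x : Γ ⧸ Subgroup.centralizer (H : Set Γ) => (T.eL x.out).comp H.subtype)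
      ?_ (QuotientGroup.mk : H → H ⧸ ι.range.subgroupOf H) QuotientGroup.mk_surjective ?_
    · intro x x' hxx'
      rw [← QuotientGroup.out_eq' x, ← QuotientGroup.out_eq' x', QuotientGroup.eq]
      rw [Subgroup.mem_centralizer_iff]
      intro h hh
      have := congrArg (fun f : H →* kˣ => f ⟨h, hh⟩) hxx'
      simp only [MonoidHom.comp_apply, Subgroup.subtype_apply, Theta.eL_apply] at this
      have h5 : T.e (x.out⁻¹ * x'.out) h = 1 := by
        rw [T.e_mul_left, T.e_inv_left, this, inv_mul_cancel]
      exact (comm_of_e_eq_one T h5).symm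
    · intro x h h' hhh'
      have h3 : h⁻¹ * h' ∈ ι.range.subgroupOf H := QuotientGroup.eq.mp hhh'
      rw [Subgroup.mem_subgroupOf] at h3
      obtain ⟨z, hz⟩ := h3
      have h4 : T.e x.out (((h⁻¹ * h' : H)) : Γ) = 1 := by
        rw [← hz]; exact T.e_range_right _ _
      rw [Subgroup.coe_mul, Subgroup.coe_inv, T.e_mul_right, T.e_inv_right, inv_mul_eq_one] at h4
      simp only [MonoidHom.comp_apply, Subgroup.subtype_apply, Theta.eL_apply]
      exact h4

include T in
theorem tfae [Finite (Γ ⧸ ι.range)] (H : Subgroup Γ) (hH : ι.range ≤ H) :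
    List.TFAE [
      IsMulCommutative H ∧ ∀ H' : Subgroup Γ, IsMulCommutative H' → H ≤ H' → H' = H,
      IsMulCommutative H ∧ (ι.range.relIndex H) ^ 2 = ι.range.index,
      H = Subgroup.centralizer (H : Set Γ)] := by
  haveI : ι.range.FiniteIndex := Subgroup.finiteIndex_of_finite_quotient
  have key := relIndex_eq_index_centralizer T H hH
  have hmul := Subgroup.relIndex_mul_index hH
  have hrel0 : ι.range.relIndex H ≠ 0 := by
    intro h0
    rw [h0, zero_mul] at hmul
    exact Subgroup.FiniteIndex.index_ne_zero hmul.symm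
  tfae_have 1 → 3 := by
    rintro ⟨hc, hmax⟩
    have hle : H ≤ Subgroup.centralizer (H : Set Γ) :=
      Subgroup.le_centralizer_iff_isMulCommutative.mpr hc
    apply le_antisymm hle
    intro g hg
    rw [Subgroup.mem_centralizer_iff] at hg
    have hcl : IsMulCommutative (Subgroup.closure ((H : Set Γ) ∪ {g})) := by
      apply Subgroup.isMulCommutative_closure
      intro x hx y hy
      rcases hx with hx | hx <;> rcases hy with hy | hy
      · exact hle hx y hy |>.symm
      · rw [Set.mem_singleton_iff] at hy
        rw [hy]; exact hg x hx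
      · rw [Set.mem_singleton_iff] at hx
        rw [hx]; exact (hg y hy).symm
      · rw [Set.mem_singleton_iff] at hx hy
        rw [hx, hy]
    have hHle : H ≤ Subgroup.closure ((H : Set Γ) ∪ {g}) := fun h hh =>
      Subgroup.subset_closure (Or.inl hh)
    have := hmax _ hcl hHle
    rw [← this]
    exact Subgroup.subset_closure (Or.inr rfl)
  tfae_have 3 → 1 := by
    intro h3
    have hle : H ≤ Subgroup.centralizer (H : Set Γ) := h3.le
    refine ⟨Subgroup.le_centralizer_iff_isMulCommutative.mp hle, ?_⟩
    intro H' hH' hHH'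
    apply le_antisymm _ hHH'
    have h4 : H' ≤ Subgroup.centralizer (H' : Set Γ) :=
      Subgroup.le_centralizer_iff_isMulCommutative.mpr hH'
    have h5 : Subgroup.centralizer (H' : Set Γ) ≤ Subgroup.centralizer (H : Set Γ) :=
      Subgroup.centralizer_le hHH'
    rw [h3]
    exact h4.trans h5
  tfae_have 3 → 2 := by
    intro h3
    have hle : H ≤ Subgroup.centralizer (H : Set Γ) := h3.le
    refine ⟨Subgroup.le_centralizer_iff_isMulCommutative.mp hle, ?_⟩
    rw [← h3] at key
    rw [pow_two, ← hmul]
    rw [key]
  tfae_have 2 → 3 := by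
    rintro ⟨hc, hsq⟩
    have hle : H ≤ Subgroup.centralizer (H : Set Γ) :=
      Subgroup.le_centralizer_iff_isMulCommutative.mpr hc
    apply le_antisymm hle
    rw [← Subgroup.relIndex_eq_one]
    have h6 : H.index = ι.range.relIndex H := by
      rw [pow_two, ← hmul] at hsq
      exact (Nat.eq_of_mul_eq_mul_left (Nat.pos_of_ne_zero hrel0) hsq).symm
    have h7 := Subgroup.relIndex_mul_index hle
    rw [← key, ← h6] at h7
    have hidx : H.index ≠ 0 := by rw [h6]; exact hrel0
    exact Nat.eq_of_mul_eq_mul_right (Nat.pos_of_ne_zero hidx) (by rw [h7, one_mul])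
  tfae_finish

end Lagr

end Groth.Agent.Lib.Helper6.ThetaRep
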