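import Mathlib
import Groth.Agent.Lib.Helper6.ThetaRep.Invariant

set_option linter.unusedSectionVars false
set_option linter.unusedVariables false
set_option autoImplicit false
set_option maxHeartbeats 400000

noncomputable section

namespace Groth.Agent.Lib.Helper6.ThetaRep

open Representation

universe u

section Split

variable {k : Type u} [Field k] {Γ : Type u} [Group Γ]
variable {W : Type u} [AddCommGroup W] [Module k W]

theorem isCompl_toSubmodule {σ : Representation k Γ W} {U U' : Subrepresentation σ}
    (h : IsCompl U U') : IsCompl U.toSubmodule U'.toSubmodule := by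
  constructor
  · rw [disjoint_iff]
    exact congrArg Subrepresentation.toSubmodule (disjoint_iff.mp h.1)
  · rw [codisjoint_iff]
    exact congrArg Subrepresentation.toSubmodule (codisjoint_iff.mp h.2)

/-- the map adding invariants of two complementary subrepresentations -/
def addInv (σ : Representation k Γ W) (H : Subgroup Γ) (U U' : Subrepresentation σ) :
    (invariants (U.toRepresentation.comp H.subtype) ×
      invariants (U'.toRepresentation.comp H.subtype)) →ₗ[k] invariants (σ.comp H.subtype) :=
  LinearMap.codRestrict _
    ((U.toSubmodule.subtype ∘ₗ (invariants (U.toRepresentation.comp H.subtype)).subtype).coprod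
      (U'.toSubmodule.subtype ∘ₗ (invariants (U'.toRepresentation.comp H.subtype)).subtype))
    (by
      rintro ⟨a, b⟩ h
      show σ h (((a : U.toSubmodule) : W) + ((b : U'.toSubmodule) : W)) =
        ((a : U.toSubmodule) : W) + ((b : U'.toSubmodule) : W)
      rw [map_add]
      have ha : σ h ((a : U.toSubmodule) : W) = ((a : U.toSubmodule) : W) :=
        congrArg Subtype.val (a.2 h)
      have hb : σ h ((b : U'.toSubmodule) : W) = ((b : U'.toSubmodule) : W) :=
        congrArg Subtype.val (b.2 h)
      rw [ha, hb])

theorem addInv_apply (σ : Representation k Γ W) (H : Subgroup Γ) (U U' : Subrepresentation σ)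
    (a : invariants (U.toRepresentation.comp H.subtype))
    (b : invariants (U'.toRepresentation.comp H.subtype)) :
    ((addInv σ H U U' (a, b) : invariants (σ.comp H.subtype)) : W) =
      ((a : U.toSubmodule) : W) + ((b : U'.toSubmodule) : W) := by
  simp [addInv]

theorem addInv_bijective (σ : Representation k Γ W) (H : Subgroup Γ) (U U' : Subrepresentation σ)
    (hc : IsCompl U.toSubmodule U'.toSubmodule) : Function.Bijective (addInv σ H U U') := by
  have hdisj : ∀ x : W, x ∈ U.toSubmodule → x ∈ U'.toSubmodule → x = 0 := by
    intro x hx hx'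
    have : x ∈ U.toSubmodule ⊓ U'.toSubmodule := ⟨hx, hx'⟩
    rw [hc.inf_eq_bot] at this
    exact (Submodule.mem_bot k).mp this
  constructor
  · rw [← LinearMap.ker_eq_bot, Submodule.eq_bot_iff]
    rintro ⟨a, b⟩ hab
    rw [LinearMap.mem_ker] at hab
    have h1 : ((a : U.toSubmodule) : W) + ((b : U'.toSubmodule) : W) = 0 := by
      rw [← addInv_apply, hab]; rfl
    have h2 : ((a : U.toSubmodule) : W) = 0 := by
      apply hdisj _ a.1.2
      have : ((a : U.toSubmodule) : W) = -((b : U'.toSubmodule) : W) := eq_neg_of_add_eq_zero_left h1
      rw [this]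
      exact U'.toSubmodule.neg_mem b.1.2
    have h3 : ((b : U'.toSubmodule) : W) = 0 := by
      rw [h2, zero_add] at h1
      exact h1
    apply Prod.ext
    · exact Subtype.ext (Subtype.ext h2)
    · exact Subtype.ext (Subtype.ext h3)
  · intro w
    have hw : (w : W) ∈ U.toSubmodule ⊔ U'.toSubmodule := by
      rw [hc.sup_eq_top]; exact Submodule.mem_top
    obtain ⟨u, hu, u', hu', huu'⟩ := Submodule.mem_sup.mp hw
    have hinv : ∀ h : H, σ h u = u ∧ σ h u' = u' := by
      intro h
      have h1 : σ h u + σ h u' = u + u' := by
        rw [← map_add, huu']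
        exact w.2 h
      have h2 : σ h u - u = 0 := by
        apply hdisj
        · exact U.toSubmodule.sub_mem (U.apply_mem_toSubmodule _ hu) hu
        · have : σ h u - u = u' - σ h u' := by
            rw [sub_eq_sub_iff_add_eq_add, h1, add_comm]
          rw [this]
          exact U'.toSubmodule.sub_mem hu' (U'.apply_mem_toSubmodule _ hu')
      have h3 : σ h u = u := sub_eq_zero.mp h2
      refine ⟨h3, ?_⟩
      rw [h3] at h1
      exact add_left_cancel h1
    refine ⟨(⟨⟨u, hu⟩, fun h => Subtype.ext (hinv h).1⟩,
      ⟨⟨u', hu'⟩, fun h => Subtype.ext (hinv h).2⟩), ?_⟩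
    apply Subtype.ext
    rw [addInv_apply]
    exact huu'

theorem finrank_invariants_add [FiniteDimensional k W] (σ : Representation k Γ W)
    (H : Subgroup Γ) (U U' : Subrepresentation σ)
    (hc : IsCompl U.toSubmodule U'.toSubmodule) :
    Module.finrank k (invariants (σ.comp H.subtype)) =
      Module.finrank k (invariants (U.toRepresentation.comp H.subtype)) +
        Module.finrank k (invariants (U'.toRepresentation.comp H.subtype)) := by
  rw [← (LinearEquiv.ofBijective _ (addInv_bijective σ H U U' hc)).finrank_eq,
    Module.finrank_prod]

end Split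

section Mult

variable {k : Type u} [Field k] {Γ : Type u} [Group Γ] {ι : kˣ →* Γ} (T : Theta ι)
  [Fintype (Γ ⧸ ι.range)]
variable (H : Subgroup Γ)
variable {V : Type u} [AddCommGroup V] [Module k V] {ρ : Representation k Γ V}

include T in
/-- a representation of weight one is a sum of `dim W^H` copies of the irreducible one -/
theorem finrank_eq_mul [IsAlgClosed k] [FiniteDimensional k V]
    (hN : (Fintype.card (Γ ⧸ ι.range) : k) ≠ 0) (hH : H ⊓ ι.range = ⊥)
    (hmax : ∀ H' : Subgroup Γ, H' ⊓ ι.range = ⊥ → H ≤ H' → H' = H)
    (hρ : IsWeightOne ι ρ) (hirr : IsIrreducible ρ) :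
    ∀ (n : ℕ) (W : Type u) [AddCommGroup W] [Module k W] [FiniteDimensional k W]
      (σ : Representation k Γ W), IsWeightOne ι σ → Module.finrank k W = n →
      Module.finrank k W =
        Module.finrank k (invariants (σ.comp H.subtype)) * Module.finrank k V := by
  intro n
  induction n using Nat.strong_induction_on with
  | _ n ih =>
    intro W _ _ _ σ hσ hn
    by_cases hW : Nontrivial W
    · obtain ⟨U, hU⟩ := exists_irreducible_sub σ
      have hUw : IsWeightOne ι U.toRepresentation := fun z u => Subtype.ext (hσ z u)
      obtain ⟨U', hU'⟩ := (semisimple T hN hσ).exists_isCompl U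
      have hU'w : IsWeightOne ι U'.toRepresentation := fun z u => Subtype.ext (hσ z u)
      have hc : IsCompl U.toSubmodule U'.toSubmodule := isCompl_toSubmodule hU'
      have h1 := Submodule.finrank_add_eq_of_isCompl hc
      have h2 := finrank_invariants_add σ H U U' hc
      have h3 : Module.finrank k (invariants (U.toRepresentation.comp H.subtype)) = 1 :=
        finrank_invariants T H hN hUw hU hH hmax
      have h4 : Module.finrank k U.toSubmodule = Module.finrank k V := by
        have a := finrank_sq T hN hUw hU
        have b := finrank_sq T hN hρ hirr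
        exact Nat.pow_left_injective (two_ne_zero) (a.trans b.symm)
      have hpos : 0 < Module.finrank k U.toSubmodule := by
        haveI := nontrivial_of_irreducible hU
        exact Module.finrank_pos
      have hlt : Module.finrank k U'.toSubmodule < n := by omega
      have h5 := ih _ hlt U'.toSubmodule U'.toRepresentation hU'w rfl
      rw [← h1, h2, h3, h5, h4]
      ring
    · rw [not_nontrivial_iff_subsingleton] at hW
      have h1 : Module.finrank k W = 0 := Module.finrank_zero_of_subsingleton
      have h2 : Module.finrank k (invariants (σ.comp H.subtype)) = 0 :=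
        Module.finrank_zero_of_subsingleton
      rw [h1, h2, zero_mul]

end Mult

end Groth.Agent.Lib.Helper6.ThetaRep
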