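import Mathlib
import Groth.Agent.Lib.Helper6.ThetaRep.Mult

set_option linter.unusedSectionVars false
set_option linter.unusedVariables false
set_option autoImplicit false
set_option maxHeartbeats 400000

noncomputable section

namespace Groth.Agent.Lib.Helper6.ThetaRep

open Representation CategoryTheory

universe u

theorem natCast_ne_zero_of_coprime (k : Type u) [Field k] (n : ℕ) (hn : 0 < n)
    (h : n.Coprime (ringExpChar k)) : (n : k) ≠ 0 := by
  have hE : ExpChar k (ringExpChar k) := inferInstance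
  generalize ringExpChar k = q at h hE
  cases hE with
  | zero => exact Nat.cast_ne_zero.mpr hn.ne'
  | prime hq =>
    intro h0
    rw [CharP.cast_eq_zero_iff k q] at h0
    have : q ∣ Nat.gcd n q := Nat.dvd_gcd h0 dvd_rfl
    rw [h] at this
    exact hq.one_lt.ne' (Nat.dvd_one.mp this)

theorem main06 (k : Type u) [Field k] [IsAlgClosed k]
    (Γ : Type u) [Group Γ] (ι : kˣ →* Γ) (hι : Function.Injective ι)
    (hcent : ι.range = Subgroup.center Γ) (hcomm : commutator Γ ≤ ι.range)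
    [Finite (Γ ⧸ ι.range)] (hcop : (Nat.card (Γ ⧸ ι.range)).Coprime (ringExpChar k)) :
    (∃ V : FDRep k Γ, Representation.IsIrreducible V.ρ ∧
      ∀ (z : kˣ) (v : V), V.ρ (ι z) v = (z : k) • v) ∧
    (∀ V W : FDRep k Γ, Representation.IsIrreducible V.ρ → Representation.IsIrreducible W.ρ →
      (∀ (z : kˣ) (v : V), V.ρ (ι z) v = (z : k) • v) →
      (∀ (z : kˣ) (w : W), W.ρ (ι z) w = (z : k) • w) →
      Nonempty (Representation.Equiv V.ρ W.ρ)) ∧
    (∀ V : FDRep k Γ, Representation.IsIrreducible V.ρ →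
      (∀ (z : kˣ) (v : V), V.ρ (ι z) v = (z : k) • v) →
      Module.finrank k V ^ 2 = Nat.card (Γ ⧸ ι.range)) := by
  classical
  have T : Theta ι := ⟨hι, hcent, hcomm⟩
  letI : Fintype (Γ ⧸ ι.range) := Fintype.ofFinite _
  have hN : (Fintype.card (Γ ⧸ ι.range) : k) ≠ 0 := by
    rw [← Nat.card_eq_fintype_card]
    exact natCast_ne_zero_of_coprime k _ Nat.card_pos hcop
  refine ⟨?_, ?_, ?_⟩
  · obtain ⟨U, i1, i2, i3, σ, hσ, hσ1⟩ := exists_irreducible_weightOne (k := k) T
    refine ⟨FDRep.of σ, ?_, ?_⟩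
    · exact hσ
    · intro z v
      exact hσ1 z v
  · intro V W hV hW hV1 hW1
    exact nonempty_equiv T hN hV1 hW1 hV hW
  · intro V hV hV1
    rw [Nat.card_eq_fintype_card]
    exact finrank_sq T hN hV1 hV

theorem main07 (k : Type u) [Field k] [IsAlgClosed k]
    (Γ : Type u) [Group Γ] (ι : kˣ →* Γ) (hι : Function.Injective ι)
    (hcent : ι.range = Subgroup.center Γ) (hcomm : commutator Γ ≤ ι.range)
    [Finite (Γ ⧸ ι.range)] (hcop : (Nat.card (Γ ⧸ ι.range)).Coprime (ringExpChar k))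
    (V : FDRep k Γ) (hV : Representation.IsIrreducible V.ρ)
    (hV1 : ∀ (z : kˣ) (v : V), V.ρ (ι z) v = (z : k) • v)
    (W : FDRep k Γ) (hW1 : ∀ (z : kˣ) (w : W), W.ρ (ι z) w = (z : k) • w)
    (H : Subgroup Γ) (hH : H ⊓ ι.range = ⊥)
    (hmax : ∀ H' : Subgroup Γ, H' ⊓ ι.range = ⊥ → H ≤ H' → H' = H) :
    Representation.IsSemisimpleRepresentation W.ρ ∧
      Module.finrank k W =
        Module.finrank k (Representation.invariants (W.ρ.comp H.subtype)) *
          Module.finrank k V := by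
  classical
  have T : Theta ι := ⟨hι, hcent, hcomm⟩
  letI : Fintype (Γ ⧸ ι.range) := Fintype.ofFinite _
  have hN : (Fintype.card (Γ ⧸ ι.range) : k) ≠ 0 := by
    rw [← Nat.card_eq_fintype_card]
    exact natCast_ne_zero_of_coprime k _ Nat.card_pos hcop
  refine ⟨semisimple T hN hW1, ?_⟩
  exact finrank_eq_mul T H hN hH hmax hV1 hV _ W W.ρ hW1 rfl

end Groth.Agent.Lib.Helper6.ThetaRep
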